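import Cfsg.Agent.Schur.M22.Base
import Cfsg.Agent.Schur.Prod

set_option autoImplicit false
set_option maxRecDepth 100000

namespace Cfsg.Agent.Schur.M22
open Cfsg.Agent.Comp Cfsg.Agent.Schur

def RP : List (List Nat) :=
  [[0, 1],
   [1, 0],
   [2, 2],
   [3, 3],
   [4, 4],
   [5, 5],
   [6, 6],
   [0, 0, 0],
   [2, 3, 2, 3],
   [0, 2, 0, 2, 0, 2],
   [0, 3, 0, 3, 0, 3],
   [0, 3, 1, 2, 0, 3, 1, 2],
   [0, 4, 3, 0, 4, 3],
   [0, 4, 0, 4, 0, 4],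
   [2, 4, 2, 4, 2, 4, 2, 4],
   [0, 2, 4, 0, 2, 4, 0, 2, 4],
   [0, 4, 2, 0, 4, 2, 0, 4, 2],
   [4, 5, 4, 5],
   [0, 5, 0, 5, 0, 5],
   [2, 5, 2, 5, 2, 5],
   [0, 4, 1, 5, 0, 4, 1, 5],
   [0, 3, 4, 3, 1, 4, 3, 4],
   [2, 4, 2, 4, 5, 2, 4, 2, 5],
   [0, 2, 0, 4, 5, 0, 2, 0, 5, 4],
   [0, 5, 1, 3, 4, 5, 1, 3, 5, 3],
   [0, 6, 0, 6, 0, 6],
   [2, 6, 2, 6, 2, 6],
   [5, 6, 5, 6, 5, 6],
   [2, 4, 2, 4, 6, 4, 6],
   [0, 2, 0, 6, 0, 2, 0, 6],
   [2, 5, 2, 6, 2, 5, 2, 6],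
   [0, 3, 6, 3, 1, 5, 6, 3, 6, 5],
   [0, 2, 5, 6, 5, 3, 5, 6, 5, 1, 3]]

namespace Tp4

noncomputable def t0 : Tr := (Tr.leaf (nat_lit 0x1ffffffff001ffffffff001ffffffff001ffffffff001ffffffff001ffffffff001ffffffff001ffffffff001ffffffff001ffffffff001ffffffff001ffffffff001ffffffff861ffc28810821ffc08072001ffc19031))

noncomputable def T : Tr := t0

def RT : List (List (List Nat)) := [
  [],
  [[nat_lit 0, nat_lit 0]],
  []]

def HT : List (List (Nat × Nat × Nat)) := [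
  [],
  [(0, 2, 0)],
  []]

def R : List (List Nat) :=
  [[0, 1],
   [1, 0],
   [0, 0, 0]]

def W : List (List Nat) := []

noncomputable def P : Par := ⟨T, (nat_lit 4), (nat_lit 15), (nat_lit 44), (nat_lit 11), (nat_lit 2047), (nat_lit 5), (nat_lit 31), (nat_lit 2), (nat_lit 19), (nat_lit 32), (nat_lit 0x18801), RT⟩

noncomputable def J0 : List Nat := [
  nat_lit 0x124661111111111111111111111111111111111111111]

theorem c0 : chk T (nat_lit 4) (nat_lit 15) (nat_lit 44) (nat_lit 11) (nat_lit 2047) (nat_lit 5) (nat_lit 31) (nat_lit 2) (nat_lit 19) (nat_lit 32) (nat_lit 0x18801) (nat_lit 2) (nat_lit 3) RT (nat_lit 16) J0 (nat_lit 16) = true := by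
  decide +kernel

theorem r0 : P.RowsOK 16 32 := chk_sound P _ _ _ J0 _ _ (by decide +kernel) c0

theorem index.{u} : IndexLe.{u} 2 R W 3 :=
  indexLe_of_cert P HT (by decide +kernel)
    (show P.RowsOK 16 32 from r0)

end Tp4

theorem upP_4 : CardLe (genW (presS 7 RP) [[0], [1]]) 3 :=
  CardLe.tc (V' := []) (n := 3) (m := 1) [0, 1] Tp4.index (presS_sat 7 RP) (by decide +kernel) (by decide +kernel) (by decide +kernel) (cardLe_nil (presS 7 RP))

namespace Tp3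

noncomputable def t0 : Tr := (Tr.leaf (nat_lit 0x81cfffc0b411b06e0066031fff02d84680300bd62bfffc0f801706f01e18adfff04e80581b20ff61afffc0fc13f02d005582bfff03f83f802a07b63a7ffc02807801f82f18e7fff009826413a03e4197ffc0ac03d02b0049025fff03b80f0024077438fffc02205201d80e9063fff01c814c0a6011408fffc07007400881d08e1fff00801d406e0362287ffc06a01001a00cc001fff01900c40a0030))

noncomputable def T : Tr := t0

def RT : List (List (List Nat)) := [
  [[nat_lit 5],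
   [nat_lit 2, nat_lit 0, nat_lit 3, nat_lit 1, nat_lit 2, nat_lit 0, nat_lit 3],
   [nat_lit 1, nat_lit 1],
   [nat_lit 2, nat_lit 1, nat_lit 2, nat_lit 1, nat_lit 2]],
  [[nat_lit 0, nat_lit 0]],
  [[nat_lit 3, nat_lit 2, nat_lit 3],
   [nat_lit 0, nat_lit 2, nat_lit 0, nat_lit 2, nat_lit 0],
   [nat_lit 1, nat_lit 2, nat_lit 1, nat_lit 2, nat_lit 1]],
  [[nat_lit 1, nat_lit 3, nat_lit 1, nat_lit 3, nat_lit 1],
   [nat_lit 0, nat_lit 3, nat_lit 0, nat_lit 3, nat_lit 0],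
   [nat_lit 2, nat_lit 3, nat_lit 2]],
  []]

def HT : List (List (Nat × Nat × Nat)) := [
  [(2, 0, 0), (0, 8, 3), (1, 4, 0), (1, 6, 0)],
  [(0, 4, 0)],
  [(0, 5, 1), (0, 6, 0), (1, 6, 1)],
  [(1, 7, 1), (0, 7, 0), (0, 5, 0)],
  []]

def R : List (List Nat) :=
  [[0, 1],
   [1, 0],
   [2, 2],
   [3, 3],
   [0, 0, 0],
   [2, 3, 2, 3],
   [0, 2, 0, 2, 0, 2],
   [0, 3, 0, 3, 0, 3],
   [0, 3, 1, 2, 0, 3, 1, 2]]

def W : List (List Nat) := [[0],
   [1]]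

noncomputable def P : Par := ⟨T, (nat_lit 4), (nat_lit 15), (nat_lit 78), (nat_lit 13), (nat_lit 8191), (nat_lit 5), (nat_lit 31), (nat_lit 4), (nat_lit 32), (nat_lit 32), (nat_lit 0xa418801), RT⟩

noncomputable def J0 : List Nat := [
  nat_lit 0x8c8002044040110888018a602028844400c506100443428844600c500102202c46064420c5261]

theorem c0 : chk T (nat_lit 4) (nat_lit 15) (nat_lit 78) (nat_lit 13) (nat_lit 8191) (nat_lit 5) (nat_lit 31) (nat_lit 4) (nat_lit 32) (nat_lit 32) (nat_lit 0xa418801) (nat_lit 3) (nat_lit 7) RT (nat_lit 16) J0 (nat_lit 16) = true := by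
  decide +kernel

theorem r0 : P.RowsOK 16 32 := chk_sound P _ _ _ J0 _ _ (by decide +kernel) c0

theorem index.{u} : IndexLe.{u} 4 R W 16 :=
  indexLe_of_cert P HT (by decide +kernel)
    (show P.RowsOK 16 32 from r0)

end Tp3

theorem upP_3 : CardLe (genW (presS 7 RP) [[0], [1], [2], [3]]) 48 :=
  CardLe.tc (V' := [[0], [1]]) (n := 16) (m := 3) [0, 1, 2, 3] Tp3.index (presS_sat 7 RP) (by decide +kernel) (by decide +kernel) (by decide +kernel) upP_4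

namespace Tp2

noncomputable def t0 : Tr := (Tr.node (nat_lit 0) (Tr.leaf (nat_lit 0x815ffff056c1e3026009e005e017fffc162046c0dc005c0df8357fff087401502580630882055fffc121076411e026c0158057fff067c15e02640150371914fffc014086809a01880616153fff025419c036c0980051814fffc0d701800df00500d9624ffff04600d4004c05f01798d2fffc19600480dd0558116624bfff036405d004805c016d091fffc05a045c01101640584147fff0248091015c0920045011fffc0d3015805500440d32443fff00400d301500530148000fffc05101400500240050))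
(Tr.leaf (nat_lit 0x3ffffffffffffffffffffc000fffffffffffffffffffff0003ffffffffffffffffffffc000fffffffffffffffffffff0003ffffffffffffffffffffc000fffffffffffffffffffff0003ffffffffffffffffffffc000fffffffffffffffffffff0003ffffffffffffffffffffc000fffffffffffffffffffff0003ffffffffffffffffffffc000fffffffffffffffffffffa177fff0a8c19f0780260007605afffc11e06881a2028401a806bfff03701a1078401a038a0d8fffc260006022307742a3)))

noncomputable def T : Tr := t0

def RT : List (List (List Nat)) := [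
  [[nat_lit 6],
   [nat_lit 3, nat_lit 1, nat_lit 3, nat_lit 1, nat_lit 3]],
  [[nat_lit 0, nat_lit 0],
   [nat_lit 3, nat_lit 0, nat_lit 3, nat_lit 0, nat_lit 3]],
  [[nat_lit 3, nat_lit 2, nat_lit 3],
   [nat_lit 1, nat_lit 2, nat_lit 1, nat_lit 2, nat_lit 1],
   [nat_lit 0, nat_lit 2, nat_lit 0, nat_lit 2, nat_lit 0],
   [nat_lit 6],
   [nat_lit 4, nat_lit 2, nat_lit 4, nat_lit 2, nat_lit 4, nat_lit 2, nat_lit 4],
   [nat_lit 1, nat_lit 4, nat_lit 2, nat_lit 1, nat_lit 4, nat_lit 2, nat_lit 1, nat_lit 4]],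
  [[nat_lit 6],
   [nat_lit 0, nat_lit 4, nat_lit 3, nat_lit 0, nat_lit 4],
   [nat_lit 2, nat_lit 3, nat_lit 2],
   [nat_lit 1, nat_lit 2, nat_lit 0, nat_lit 3, nat_lit 1, nat_lit 2, nat_lit 0],
   [nat_lit 4, nat_lit 1, nat_lit 3, nat_lit 4, nat_lit 1],
   [nat_lit 0, nat_lit 3, nat_lit 0, nat_lit 3, nat_lit 0]],
  [[nat_lit 0, nat_lit 4, nat_lit 0, nat_lit 4, nat_lit 0],
   [nat_lit 1, nat_lit 2, nat_lit 4, nat_lit 1, nat_lit 2, nat_lit 4, nat_lit 1, nat_lit 2],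
   [nat_lit 0, nat_lit 2, nat_lit 4, nat_lit 0, nat_lit 2, nat_lit 4, nat_lit 0, nat_lit 2],
   [nat_lit 1, nat_lit 4, nat_lit 1, nat_lit 4, nat_lit 1],
   [nat_lit 1, nat_lit 3, nat_lit 4, nat_lit 1, nat_lit 3],
   [nat_lit 3, nat_lit 0, nat_lit 4, nat_lit 3, nat_lit 0]],
  []]

def HT : List (List (Nat × Nat × Nat)) := [
  [(2, 0, 0), (1, 8, 0)],
  [(0, 5, 0), (0, 8, 1)],
  [(0, 6, 1), (1, 7, 1), (0, 7, 0), (2, 2, 0), (0, 12, 1), (1, 13, 2)],
  [(2, 3, 0), (0, 10, 0), (0, 6, 0), (0, 9, 2), (1, 10, 1), (0, 8, 0)],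
  [(0, 11, 0), (1, 14, 2), (0, 13, 0), (1, 11, 1), (1, 10, 2), (0, 10, 2)],
  []]

def R : List (List Nat) :=
  [[0, 1],
   [1, 0],
   [2, 2],
   [3, 3],
   [4, 4],
   [0, 0, 0],
   [2, 3, 2, 3],
   [0, 2, 0, 2, 0, 2],
   [0, 3, 0, 3, 0, 3],
   [0, 3, 1, 2, 0, 3, 1, 2],
   [0, 4, 3, 0, 4, 3],
   [0, 4, 0, 4, 0, 4],
   [2, 4, 2, 4, 2, 4, 2, 4],
   [0, 2, 4, 0, 2, 4, 0, 2, 4],
   [0, 4, 2, 0, 4, 2, 0, 4, 2],
   [0, 3, 4, 3, 1, 4, 3, 4]]

def W : List (List Nat) := [[0],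
   [1],
   [2],
   [3]]

noncomputable def P : Par := ⟨T, (nat_lit 4), (nat_lit 15), (nat_lit 98), (nat_lit 14), (nat_lit 16383), (nat_lit 6), (nat_lit 63), (nat_lit 5), (nat_lit 36), (nat_lit 48), (nat_lit 0x18a418801), RT⟩

noncomputable def J0 : List Nat := [
  nat_lit 0x2320001790004640400221110006283410220040880160470408c0111018628481033884458018a0004051e11174062a041,
  nat_lit 0xc478445ea18aed06297c1084210842108421084210842108421084210842108421084210842108421084210842108421084210842108421]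

theorem c0 : chk T (nat_lit 4) (nat_lit 15) (nat_lit 98) (nat_lit 14) (nat_lit 16383) (nat_lit 6) (nat_lit 63) (nat_lit 5) (nat_lit 36) (nat_lit 48) (nat_lit 0x18a418801) (nat_lit 3) (nat_lit 7) RT (nat_lit 16) J0 (nat_lit 16) = true := by
  decide +kernel

theorem r0 : P.RowsOK 16 48 := chk_sound P _ _ _ J0 _ _ (by decide +kernel) c0

theorem index.{u} : IndexLe.{u} 5 R W 20 :=
  indexLe_of_cert P HT (by decide +kernel)
    (show P.RowsOK 16 48 from r0)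

end Tp2

theorem upP_2 : CardLe (genW (presS 7 RP) [[0], [1], [2], [3], [4]]) 960 :=
  CardLe.tc (V' := [[0], [1], [2], [3]]) (n := 20) (m := 48) [0, 1, 2, 3, 4] Tp2.index (presS_sat 7 RP) (by decide +kernel) (by decide +kernel) (by decide +kernel) upP_3

namespace Tp1

noncomputable def t0 : Tr := (Tr.node (nat_lit 0) (Tr.leaf (nat_lit 0x855bfff005831a0a7c15f0a8c262845bfff0b6801606742a0055c39c815bfff077406307782e1066c0166557fff00540e20d6431a0d783976457fff0188015056821904581dd6157fff0a7835f066c35c02640156057fff05640d70e7025b00540da6353fff0b801a000500950184060634ffff035c119004c0d60f7019e634bfff017c05e0048117017415b4347fff017005b00440d801680594247fff0250094016001104500d44147fff0248113015c09202480114047fff034c0d201580d300440d32543fff00400910154054014c0520003fff014405001400500240050))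
(Tr.leaf (nat_lit 0x3ffffffffffffffffffffffff0003ffffffffffffffffffffffff0003ffffffffffffffffffffffff0003ffffffffffffffffffffffff0003ffffffffffffffffffffffff0003ffffffffffffffffffffffff0003ffffffffffffffffffffffff0003ffffffffffffffffffffffff0003ffffffffffffffffffffffff0003ffffffffffffffffffffffff0003ffffffffffffffffffffffffa487fff0d8402103903e407901a4a477fff088c01d048c4230a8825f856ffff006c09c0b882a2087c2e38163fff0e90064048029d02800188063fff0c60158058425e00600e1)))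

noncomputable def T : Tr := t0

def RT : List (List (List Nat)) := [
  [[nat_lit 7],
   [nat_lit 2, nat_lit 1, nat_lit 2, nat_lit 1, nat_lit 2],
   [nat_lit 3, nat_lit 4, nat_lit 1, nat_lit 3, nat_lit 4],
   [nat_lit 5, nat_lit 4, nat_lit 1, nat_lit 2, nat_lit 1, nat_lit 4, nat_lit 5, nat_lit 1, nat_lit 2],
   [nat_lit 1, nat_lit 1]],
  [[nat_lit 0, nat_lit 0],
   [nat_lit 4, nat_lit 3, nat_lit 0, nat_lit 4, nat_lit 3],
   [nat_lit 5, nat_lit 0, nat_lit 5, nat_lit 0, nat_lit 5],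
   [nat_lit 5, nat_lit 4, nat_lit 0, nat_lit 2, nat_lit 0, nat_lit 4, nat_lit 5, nat_lit 0, nat_lit 2]],
  [[nat_lit 3, nat_lit 2, nat_lit 3],
   [nat_lit 7],
   [nat_lit 0, nat_lit 5, nat_lit 4, nat_lit 0, nat_lit 2, nat_lit 0, nat_lit 4, nat_lit 5, nat_lit 0],
   [nat_lit 5, nat_lit 2, nat_lit 5, nat_lit 2, nat_lit 5],
   [nat_lit 0, nat_lit 3, nat_lit 1, nat_lit 2, nat_lit 0, nat_lit 3, nat_lit 1],
   [nat_lit 4, nat_lit 2, nat_lit 4, nat_lit 2, nat_lit 4, nat_lit 2, nat_lit 4]],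
  [[nat_lit 7],
   [nat_lit 1, nat_lit 3, nat_lit 1, nat_lit 3, nat_lit 1],
   [nat_lit 4, nat_lit 0, nat_lit 3, nat_lit 4, nat_lit 3, nat_lit 1, nat_lit 4],
   [nat_lit 0, nat_lit 3, nat_lit 0, nat_lit 3, nat_lit 0],
   [nat_lit 0, nat_lit 5, nat_lit 1, nat_lit 3, nat_lit 4, nat_lit 5, nat_lit 1, nat_lit 3, nat_lit 5],
   [nat_lit 2, nat_lit 3, nat_lit 2]],
  [[nat_lit 5, nat_lit 4, nat_lit 5],
   [nat_lit 7],
   [nat_lit 1, nat_lit 3, nat_lit 4, nat_lit 1, nat_lit 3],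
   [nat_lit 1, nat_lit 5, nat_lit 0, nat_lit 4, nat_lit 1, nat_lit 5, nat_lit 0],
   [nat_lit 2, nat_lit 5, nat_lit 2, nat_lit 4, nat_lit 2, nat_lit 4, nat_lit 5, nat_lit 2],
   [nat_lit 5, nat_lit 1, nat_lit 3, nat_lit 5, nat_lit 3, nat_lit 0, nat_lit 5, nat_lit 1, nat_lit 3]],
  [[nat_lit 0, nat_lit 5, nat_lit 0, nat_lit 5, nat_lit 0],
   [nat_lit 2, nat_lit 5, nat_lit 2, nat_lit 5, nat_lit 2],
   [nat_lit 3, nat_lit 0, nat_lit 5, nat_lit 1, nat_lit 3, nat_lit 4, nat_lit 5, nat_lit 1, nat_lit 3],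
   [nat_lit 4, nat_lit 5, nat_lit 4],
   [nat_lit 0, nat_lit 4, nat_lit 1, nat_lit 5, nat_lit 0, nat_lit 4, nat_lit 1],
   [nat_lit 4, nat_lit 2, nat_lit 4, nat_lit 2, nat_lit 5, nat_lit 2, nat_lit 4, nat_lit 2],
   [nat_lit 3, nat_lit 0, nat_lit 5, nat_lit 4, nat_lit 3, nat_lit 0, nat_lit 5, nat_lit 1, nat_lit 3]],
  []]

def HT : List (List (Nat × Nat × Nat)) := [
  [(2, 0, 0), (1, 8, 0), (1, 11, 0), (1, 22, 5), (1, 6, 0)],
  [(0, 6, 0), (0, 11, 1), (0, 17, 1), (0, 22, 8)],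
  [(0, 7, 1), (2, 2, 0), (0, 22, 7), (0, 18, 1), (0, 10, 0), (0, 13, 1)],
  [(2, 3, 0), (1, 9, 1), (0, 20, 7), (0, 9, 0), (0, 23, 0), (0, 7, 0)],
  [(0, 16, 1), (2, 4, 0), (1, 11, 2), (0, 19, 2), (0, 21, 7), (0, 23, 5)],
  [(0, 17, 0), (0, 18, 0), (0, 23, 9), (0, 16, 0), (0, 19, 0), (1, 21, 5), (1, 23, 2)],
  []]

def R : List (List Nat) :=
  [[0, 1],
   [1, 0],
   [2, 2],
   [3, 3],
   [4, 4],
   [5, 5],
   [0, 0, 0],
   [2, 3, 2, 3],
   [0, 2, 0, 2, 0, 2],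
   [0, 3, 0, 3, 0, 3],
   [0, 3, 1, 2, 0, 3, 1, 2],
   [0, 4, 3, 0, 4, 3],
   [0, 4, 0, 4, 0, 4],
   [2, 4, 2, 4, 2, 4, 2, 4],
   [0, 2, 4, 0, 2, 4, 0, 2, 4],
   [0, 4, 2, 0, 4, 2, 0, 4, 2],
   [4, 5, 4, 5],
   [0, 5, 0, 5, 0, 5],
   [2, 5, 2, 5, 2, 5],
   [0, 4, 1, 5, 0, 4, 1, 5],
   [0, 3, 4, 3, 1, 4, 3, 4],
   [2, 4, 2, 4, 5, 2, 4, 2, 5],
   [0, 2, 0, 4, 5, 0, 2, 0, 5, 4],
   [0, 5, 1, 3, 4, 5, 1, 3, 5, 3]]

def W : List (List Nat) := [[0],
   [1],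
   [2],
   [3],
   [4]]

noncomputable def P : Par := ⟨T, (nat_lit 4), (nat_lit 15), (nat_lit 112), (nat_lit 14), (nat_lit 16383), (nat_lit 6), (nat_lit 63), (nat_lit 6), (nat_lit 37), (nat_lit 48), (nat_lit 0x398a418801), RT⟩

noncomputable def J0 : List Nat := [
  nat_lit 0x10c400011c40010c40011c401000028410840140184900881308418c1000840010008400100284101002841c108401141848002010363840165570841848001810303840100567841,
  nat_lit 0x2170400612250004114ca10549d21505015216041041041041041041041041041041041041041041041041041041041041041041041041041041041041041041041041041041041041041041041]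

theorem c0 : chk T (nat_lit 4) (nat_lit 15) (nat_lit 112) (nat_lit 14) (nat_lit 16383) (nat_lit 6) (nat_lit 63) (nat_lit 6) (nat_lit 37) (nat_lit 48) (nat_lit 0x398a418801) (nat_lit 4) (nat_lit 15) RT (nat_lit 16) J0 (nat_lit 16) = true := by
  decide +kernel

theorem r0 : P.RowsOK 16 48 := chk_sound P _ _ _ J0 _ _ (by decide +kernel) c0

theorem index.{u} : IndexLe.{u} 6 R W 21 :=
  indexLe_of_cert P HT (by decide +kernel)
    (show P.RowsOK 16 48 from r0)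

end Tp1

theorem upP_1 : CardLe (genW (presS 7 RP) [[0], [1], [2], [3], [4], [5]]) 20160 :=
  CardLe.tc (V' := [[0], [1], [2], [3], [4]]) (n := 21) (m := 960) [0, 1, 2, 3, 4, 5] Tp1.index (presS_sat 7 RP) (by decide +kernel) (by decide +kernel) (by decide +kernel) upP_2

namespace Tp0

noncomputable def t0 : Tr := (Tr.node (nat_lit 0) (Tr.leaf (nat_lit 0x815ffff0d7c45f01903de068c1dc005d995fffc015026c2970e7c3620b6031d6557fff0c6401513843da0e6c2de0c61915fffc31c1384015066c25a055c21f6157fff0b880de0d801dc0d7409a0055815fffc4600a680d80e7429c00540db6353fff0d743e20688014025406301898d3fffc0610a6011a004c0d70d7431e634bfff045c0600b78012046005f0671151fffc09600440d603580d609582164347fff017805d0170011036405b0169091fffc09402500d4016401104500d44147fff02481d2054c05802480920045011fffc0d3064c112015c0d300440d32643fff0040056024405501500530148000fffc051014005001400500240050))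
(Tr.leaf (nat_lit 0x3fffffffffffffffffffffffffffc000ffffffffffffffffffffffffffff0003fffffffffffffffffffffffffffc000ffffffffffffffffffffffffffff0003fffffffffffffffffffffffffffc000ffffffffffffffffffffffffffff0003fffffffffffffffffffffffffffc000ffffffffffffffffffffffffffff0003fffffffffffffffffffffffffffc000ffffffffffffffffffffffffffffa48ffff10943e3008c22508941e5069691ffffc3e3109001f059026410843a08167fff0e904250194122057c0a20066019fffc29b0e64159058c31e00640e38663fff006049c127452105844a01192157fffc41a005c31b14802e00f904e1)))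

noncomputable def T : Tr := t0

def RT : List (List (List Nat)) := [
  [[nat_lit 8],
   [nat_lit 2, nat_lit 1, nat_lit 2, nat_lit 1, nat_lit 2],
   [nat_lit 4, nat_lit 1, nat_lit 4, nat_lit 1, nat_lit 4],
   [nat_lit 5, nat_lit 1, nat_lit 5, nat_lit 1, nat_lit 5],
   [nat_lit 1, nat_lit 1]],
  [[nat_lit 0, nat_lit 0],
   [nat_lit 4, nat_lit 3, nat_lit 0, nat_lit 4, nat_lit 3],
   [nat_lit 5, nat_lit 0, nat_lit 5, nat_lit 0, nat_lit 5],
   [nat_lit 4, nat_lit 0, nat_lit 4, nat_lit 0, nat_lit 4],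
   [nat_lit 6, nat_lit 0, nat_lit 6, nat_lit 0, nat_lit 6]],
  [[nat_lit 3, nat_lit 2, nat_lit 3],
   [nat_lit 8],
   [nat_lit 0, nat_lit 6, nat_lit 0, nat_lit 2, nat_lit 0, nat_lit 6, nat_lit 0],
   [nat_lit 0, nat_lit 3, nat_lit 1, nat_lit 2, nat_lit 0, nat_lit 3, nat_lit 1],
   [nat_lit 0, nat_lit 2, nat_lit 0, nat_lit 2, nat_lit 0],
   [nat_lit 1, nat_lit 4, nat_lit 2, nat_lit 1, nat_lit 4, nat_lit 2, nat_lit 1, nat_lit 4],
   [nat_lit 4, nat_lit 2, nat_lit 4, nat_lit 2, nat_lit 4, nat_lit 2, nat_lit 4],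
   [nat_lit 5, nat_lit 2, nat_lit 5, nat_lit 2, nat_lit 5],
   [nat_lit 6, nat_lit 2, nat_lit 6, nat_lit 2, nat_lit 6],
   [nat_lit 4, nat_lit 2, nat_lit 6, nat_lit 4, nat_lit 6, nat_lit 4]],
  [[nat_lit 0, nat_lit 3, nat_lit 0, nat_lit 3, nat_lit 0],
   [nat_lit 8],
   [nat_lit 4, nat_lit 1, nat_lit 3, nat_lit 4, nat_lit 1],
   [nat_lit 1, nat_lit 3, nat_lit 1, nat_lit 3, nat_lit 1],
   [nat_lit 4, nat_lit 0, nat_lit 3, nat_lit 4, nat_lit 3, nat_lit 1, nat_lit 4],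
   [nat_lit 5, nat_lit 6, nat_lit 5, nat_lit 2, nat_lit 1, nat_lit 3, nat_lit 0, nat_lit 5, nat_lit 6, nat_lit 5],
   [nat_lit 2, nat_lit 3, nat_lit 2],
   [nat_lit 0, nat_lit 4, nat_lit 3, nat_lit 0, nat_lit 4]],
  [[nat_lit 8],
   [nat_lit 6, nat_lit 2, nat_lit 4, nat_lit 2, nat_lit 4, nat_lit 6],
   [nat_lit 2, nat_lit 6, nat_lit 4, nat_lit 6, nat_lit 4, nat_lit 2],
   [nat_lit 5, nat_lit 4, nat_lit 5],
   [nat_lit 1, nat_lit 3, nat_lit 4, nat_lit 1, nat_lit 3],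
   [nat_lit 2, nat_lit 1, nat_lit 4, nat_lit 2, nat_lit 1, nat_lit 4, nat_lit 2, nat_lit 1],
   [nat_lit 2, nat_lit 0, nat_lit 4, nat_lit 2, nat_lit 0, nat_lit 4, nat_lit 2, nat_lit 0],
   [nat_lit 6, nat_lit 4, nat_lit 2, nat_lit 4, nat_lit 2, nat_lit 6],
   [nat_lit 0, nat_lit 4, nat_lit 0, nat_lit 4, nat_lit 0]],
  [[nat_lit 8],
   [nat_lit 2, nat_lit 6, nat_lit 2, nat_lit 5, nat_lit 2, nat_lit 6, nat_lit 2],
   [nat_lit 6, nat_lit 3, nat_lit 6, nat_lit 5, nat_lit 0, nat_lit 3, nat_lit 6, nat_lit 3, nat_lit 1],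
   [nat_lit 1, nat_lit 2, nat_lit 1, nat_lit 5, nat_lit 4, nat_lit 1, nat_lit 2, nat_lit 1, nat_lit 4],
   [nat_lit 4, nat_lit 3, nat_lit 0, nat_lit 5, nat_lit 1, nat_lit 3, nat_lit 5, nat_lit 3, nat_lit 0],
   [nat_lit 3, nat_lit 0, nat_lit 5, nat_lit 1, nat_lit 3, nat_lit 4, nat_lit 5, nat_lit 1, nat_lit 3],
   [nat_lit 2, nat_lit 5, nat_lit 2, nat_lit 5, nat_lit 2],
   [nat_lit 0, nat_lit 4, nat_lit 1, nat_lit 5, nat_lit 0, nat_lit 4, nat_lit 1],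
   [nat_lit 4, nat_lit 5, nat_lit 4],
   [nat_lit 0, nat_lit 5, nat_lit 0, nat_lit 5, nat_lit 0]],
  [[nat_lit 0, nat_lit 6, nat_lit 0, nat_lit 6, nat_lit 0],
   [nat_lit 2, nat_lit 6, nat_lit 2, nat_lit 6, nat_lit 2],
   [nat_lit 5, nat_lit 6, nat_lit 5, nat_lit 6, nat_lit 5],
   [nat_lit 3, nat_lit 1, nat_lit 5, nat_lit 6, nat_lit 3, nat_lit 6, nat_lit 5, nat_lit 0, nat_lit 3],
   [nat_lit 2, nat_lit 4, nat_lit 2, nat_lit 4, nat_lit 6, nat_lit 4],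
   [nat_lit 1, nat_lit 6, nat_lit 1, nat_lit 6, nat_lit 1],
   [nat_lit 4, nat_lit 2, nat_lit 4, nat_lit 2, nat_lit 6, nat_lit 4],
   [nat_lit 0, nat_lit 2, nat_lit 0, nat_lit 6, nat_lit 0, nat_lit 2, nat_lit 0]],
  []]

def HT : List (List (Nat × Nat × Nat)) := [
  [(2, 0, 0), (1, 9, 0), (1, 13, 0), (1, 18, 0), (1, 7, 0)],
  [(0, 7, 0), (0, 12, 1), (0, 18, 1), (0, 13, 1), (0, 25, 1)],
  [(0, 8, 1), (2, 2, 0), (0, 29, 2), (0, 11, 0), (0, 9, 0), (1, 15, 2), (0, 14, 1), (0, 19, 1), (0, 26, 1), (1, 28, 5)],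
  [(0, 10, 0), (2, 3, 0), (1, 12, 1), (1, 10, 1), (0, 21, 7), (1, 32, 6), (0, 8, 0), (0, 12, 0)],
  [(2, 4, 0), (0, 28, 6), (1, 28, 6), (0, 17, 1), (1, 12, 2), (1, 15, 1), (0, 16, 2), (1, 28, 2), (0, 13, 0)],
  [(2, 5, 0), (0, 30, 2), (0, 31, 6), (1, 23, 2), (1, 24, 5), (0, 24, 9), (0, 19, 0), (0, 20, 0), (0, 17, 0), (0, 18, 0)],
  [(0, 25, 0), (0, 26, 0), (0, 27, 0), (0, 31, 3), (0, 28, 0), (1, 25, 1), (1, 28, 3), (0, 29, 0)],
  []]

def R : List (List Nat) :=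
  [[0, 1],
   [1, 0],
   [2, 2],
   [3, 3],
   [4, 4],
   [5, 5],
   [6, 6],
   [0, 0, 0],
   [2, 3, 2, 3],
   [0, 2, 0, 2, 0, 2],
   [0, 3, 0, 3, 0, 3],
   [0, 3, 1, 2, 0, 3, 1, 2],
   [0, 4, 3, 0, 4, 3],
   [0, 4, 0, 4, 0, 4],
   [2, 4, 2, 4, 2, 4, 2, 4],
   [0, 2, 4, 0, 2, 4, 0, 2, 4],
   [0, 4, 2, 0, 4, 2, 0, 4, 2],
   [4, 5, 4, 5],
   [0, 5, 0, 5, 0, 5],
   [2, 5, 2, 5, 2, 5],
   [0, 4, 1, 5, 0, 4, 1, 5],
   [0, 3, 4, 3, 1, 4, 3, 4],
   [2, 4, 2, 4, 5, 2, 4, 2, 5],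
   [0, 2, 0, 4, 5, 0, 2, 0, 5, 4],
   [0, 5, 1, 3, 4, 5, 1, 3, 5, 3],
   [0, 6, 0, 6, 0, 6],
   [2, 6, 2, 6, 2, 6],
   [5, 6, 5, 6, 5, 6],
   [2, 4, 2, 4, 6, 4, 6],
   [0, 2, 0, 6, 0, 2, 0, 6],
   [2, 5, 2, 6, 2, 5, 2, 6],
   [0, 3, 6, 3, 1, 5, 6, 3, 6, 5],
   [0, 2, 5, 6, 5, 3, 5, 6, 5, 1, 3]]

def W : List (List Nat) := [[0],
   [1],
   [2],
   [3],
   [4],
   [5]]

noncomputable def P : Par := ⟨T, (nat_lit 4), (nat_lit 15), (nat_lit 126), (nat_lit 14), (nat_lit 16383), (nat_lit 6), (nat_lit 63), (nat_lit 7), (nat_lit 38), (nat_lit 48), (nat_lit 0x8398a418801), RT⟩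

noncomputable def J0 : List Nat := [
  nat_lit 0x10c400011c40011c40010c40010c40100003084108402140184901c081308410cc1000840001509758501000840141002841c010028400010842198018498000010365841816400085c10508948418480029c1,
  nat_lit 0x99585c102a9ab841086c1a241849480201468686401407486601041041041041041041041041041041041041041041041041041041041041041041041041041041041041041041041041041041041041041041041041]

theorem c0 : chk T (nat_lit 4) (nat_lit 15) (nat_lit 126) (nat_lit 14) (nat_lit 16383) (nat_lit 6) (nat_lit 63) (nat_lit 7) (nat_lit 38) (nat_lit 48) (nat_lit 0x8398a418801) (nat_lit 4) (nat_lit 15) RT (nat_lit 16) J0 (nat_lit 16) = true := by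
  decide +kernel

theorem r0 : P.RowsOK 16 48 := chk_sound P _ _ _ J0 _ _ (by decide +kernel) c0

theorem index.{u} : IndexLe.{u} 7 R W 22 :=
  indexLe_of_cert P HT (by decide +kernel)
    (show P.RowsOK 16 48 from r0)

end Tp0

theorem upP : CardLe (genW (presS 7 RP) (letters 7)) 443520 :=
  CardLe.tc (V' := [[0], [1], [2], [3], [4], [5]]) (n := 22) (m := 20160) [0, 1, 2, 3, 4, 5, 6] Tp0.index (presS_sat 7 RP) (by decide +kernel) (by decide +kernel) (by decide +kernel) upP_1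

noncomputable def y0 : Net :=
(Net.cons (nat_lit 0x592) (nat_lit 12)
(Net.cons (nat_lit 0x3e010) (nat_lit 6)
(Net.cons (nat_lit 0x4000) (nat_lit 3)
(Net.cons (nat_lit 0x40) (nat_lit 2)
(Net.cons (nat_lit 0x1040) (nat_lit 1)
(Net.cons (nat_lit 0x8040) (nat_lit 2)
(Net.cons (nat_lit 0x146102) (nat_lit 3)
(Net.cons (nat_lit 0x3e000) (nat_lit 6)
(Net.cons (nat_lit 0x7f2) (nat_lit 12)
Net.nil)))))))))

noncomputable def y1 : Net :=
(Net.cons (nat_lit 0x7f2) (nat_lit 12)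
(Net.cons (nat_lit 0x3e000) (nat_lit 6)
(Net.cons (nat_lit 0x6100) (nat_lit 3)
(Net.cons (nat_lit 0x40) (nat_lit 2)
(Net.cons (nat_lit 0x1040) (nat_lit 1)
(Net.cons (nat_lit 0x8040) (nat_lit 2)
(Net.cons (nat_lit 0x144002) (nat_lit 3)
(Net.cons (nat_lit 0x3e010) (nat_lit 6)
(Net.cons (nat_lit 0x592) (nat_lit 12)
Net.nil)))))))))

noncomputable def y2 : Net :=
(Net.cons (nat_lit 0x498) (nat_lit 12)
(Net.cons (nat_lit 0x80000) (nat_lit 3)
(Net.cons (nat_lit 0x40000) (nat_lit 2)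
(Net.cons (nat_lit 0x240040) (nat_lit 1)
(Net.cons (nat_lit 0x40000) (nat_lit 2)
(Net.cons (nat_lit 0x82100) (nat_lit 3)
(Net.cons (nat_lit 0x1018) (nat_lit 6)
(Net.cons (nat_lit 0x498) (nat_lit 12)
Net.nil))))))))

noncomputable def y3 : Net :=
(Net.cons (nat_lit 0x498) (nat_lit 12)
(Net.cons (nat_lit 0x18000) (nat_lit 6)
(Net.cons (nat_lit 0x100180) (nat_lit 3)
(Net.cons (nat_lit 0x200040) (nat_lit 2)
(Net.cons (nat_lit 0x240248) (nat_lit 1)
(Net.cons (nat_lit 0x200200) (nat_lit 2)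
(Net.cons (nat_lit 0x103040) (nat_lit 3)
(Net.cons (nat_lit 0x18018) (nat_lit 6)
(Net.cons (nat_lit 0x498) (nat_lit 12)
Net.nil)))))))))

noncomputable def y4 : Net :=
(Net.cons (nat_lit 0xc08) (nat_lit 12)
(Net.cons (nat_lit 0x1e022) (nat_lit 6)
(Net.cons (nat_lit 0x2002) (nat_lit 3)
(Net.cons (nat_lit 0x1000) (nat_lit 2)
(Net.cons (nat_lit 0x9008) (nat_lit 1)
(Net.cons (nat_lit 0x248000) (nat_lit 2)
(Net.cons (nat_lit 0x5142) (nat_lit 3)
(Net.cons (nat_lit 0x1e022) (nat_lit 6)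
(Net.cons (nat_lit 0xc08) (nat_lit 12)
Net.nil)))))))))

noncomputable def y5 : Net :=
(Net.cons (nat_lit 0x244) (nat_lit 12)
(Net.cons (nat_lit 0x20008) (nat_lit 6)
(Net.cons (nat_lit 0x84) (nat_lit 3)
(Net.cons (nat_lit 0x41000) (nat_lit 2)
(Net.cons (nat_lit 0x41040) (nat_lit 1)
(Net.cons (nat_lit 0x241208) (nat_lit 2)
(Net.cons (nat_lit 0x84) (nat_lit 3)
(Net.cons (nat_lit 0x31008) (nat_lit 6)
(Net.cons (nat_lit 0x244) (nat_lit 12)
Net.nil)))))))))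

noncomputable def y6 : Net :=
(Net.cons (nat_lit 0x820) (nat_lit 12)
(Net.cons (nat_lit 0x2020) (nat_lit 6)
(Net.cons (nat_lit 0x4080) (nat_lit 3)
(Net.cons (nat_lit 0x200) (nat_lit 2)
(Net.cons (nat_lit 0x1240) (nat_lit 1)
(Net.cons (nat_lit 0x48200) (nat_lit 2)
(Net.cons (nat_lit 0x4080) (nat_lit 3)
(Net.cons (nat_lit 0x32020) (nat_lit 6)
(Net.cons (nat_lit 0x822) (nat_lit 12)
Net.nil)))))))))

noncomputable def TP0 : List Net := [y0, y1, y2, y3, y4, y5, y6]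

noncomputable def TP : List Net := TP0 ++ T

theorem okP : TOK 24 TP := tok_append (TOK_of_ok (by decide +kernel)) ok

def DP : List (List Nat × List Nat) :=
  [([0], [16, 16]),
   ([1], [16]),
   ([2], [13, 15, 16]),
   ([3], [14, 14, 16, 16]),
   ([4], [13, 12, 11, 14, 13, 13]),
   ([5], [12, 10, 13, 12, 11, 14, 13, 16, 16]),
   ([6], [14, 8, 11, 13, 9, 11, 13, 11, 14, 13, 13, 16, 16])]

theorem defsP : ∀ e ∈ DP, ev (sig TP) e.1 = ev (sig TP) e.2 :=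
  eq_of_eqsP okP (by norm_num) (show eqsP (nat_lit 24) (nat_lit 5) (nat_lit 0) (nat_lit 5) TP DP = true by decide +kernel)

theorem satP : Sat (sig TP) RP :=
  sat_of_relsP okP (by norm_num) (show relsP (nat_lit 24) (nat_lit 5) (nat_lit 0) (nat_lit 5) TP RP = true by decide +kernel)

def lvP : List (List (List Nat) × List Nat × Nat × Nat) :=
  [([[6]], [0, 1, 3, 4, 5, 0, 4, 2], 1, 22),
   ([[5]], [0, 2, 3, 4, 2, 3, 1], 2, 21),
   ([[4]], [0, 1, 2, 0, 3, 1, 2, 0], 3, 20),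
   ([[2], [3]], [0, 1, 2, 0, 1], 4, 16),
   ([[0], [1]], [0, 0], 5, 3)]

theorem presE : ∃ s : ℕ → ↥Cfsg.Spor.M22, IsPres s 7 RP :=
  haveI := card.1
  isPres_net inj (AllIn.ext allIn (o := 7) rfl defsP (by decide +kernel)) (by decide +kernel) satP card.2
    (low_gen (l := 5) (lv := lvP) okP (by norm_num) (by decide +kernel) (by decide +kernel)) upP

theorem pres : IsPres presE.choose 7 RP := presE.choose_spec

end Cfsg.Agent.Schur.M22
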