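import Cfsg.Agent.Schur.Enc
import Cfsg.Agent.Schur.Swap
import Cfsg.Agent.Golay.Mathieu

set_option autoImplicit false
set_option maxRecDepth 100000

namespace Cfsg.Agent.Schur.M22
open Cfsg.Agent.Comp Cfsg.Agent.Schur

noncomputable def n0 : Net :=
(Net.cons (nat_lit 0xaaa) (nat_lit 12)
(Net.cons (nat_lit 0x2a02a) (nat_lit 6)
(Net.cons (nat_lit 0x82082) (nat_lit 3)
(Net.cons (nat_lit 0x41041) (nat_lit 2)
(Net.cons (nat_lit 0x249249) (nat_lit 1)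
(Net.cons (nat_lit 0x41041) (nat_lit 2)
(Net.cons (nat_lit 0x1c01c0) (nat_lit 3)
(Net.cons (nat_lit 0x7038) (nat_lit 6)
(Net.cons (nat_lit 0xfc0) (nat_lit 12)
Net.nil)))))))))

noncomputable def n1 : Net :=
(Net.cons (nat_lit 0xdce) (nat_lit 12)
(Net.cons (nat_lit 0x28028) (nat_lit 6)
(Net.cons (nat_lit 0x180) (nat_lit 3)
(Net.cons (nat_lit 0x1200) (nat_lit 2)
(Net.cons (nat_lit 0x241248) (nat_lit 1)
(Net.cons (nat_lit 0x1040) (nat_lit 2)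
(Net.cons (nat_lit 0x7182) (nat_lit 3)
(Net.cons (nat_lit 0xf038) (nat_lit 6)
(Net.cons (nat_lit 0xe30) (nat_lit 12)
Net.nil)))))))))

noncomputable def n2 : Net :=
(Net.cons (nat_lit 0xd48) (nat_lit 12)
(Net.cons (nat_lit 0x24) (nat_lit 6)
(Net.cons (nat_lit 0x102080) (nat_lit 3)
(Net.cons (nat_lit 0x200) (nat_lit 2)
(Net.cons (nat_lit 0x1208) (nat_lit 1)
(Net.cons (nat_lit 0x209240) (nat_lit 2)
(Net.cons (nat_lit 0xc3100) (nat_lit 3)
(Net.cons (nat_lit 0x1a03c) (nat_lit 6)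
(Net.cons (nat_lit 0xa04) (nat_lit 12)
Net.nil)))))))))

noncomputable def n3 : Net :=
(Net.cons (nat_lit 0x4) (nat_lit 12)
(Net.cons (nat_lit 0x2004) (nat_lit 6)
(Net.cons (nat_lit 0x80) (nat_lit 3)
(Net.cons (nat_lit 0x8008) (nat_lit 2)
(Net.cons (nat_lit 0x209208) (nat_lit 1)
(Net.cons (nat_lit 0x1048) (nat_lit 2)
(Net.cons (nat_lit 0xc7100) (nat_lit 3)
(Net.cons (nat_lit 0x1e004) (nat_lit 6)
(Net.cons (nat_lit 0x7f0) (nat_lit 12)
Net.nil)))))))))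

noncomputable def n4 : Net :=
(Net.cons (nat_lit 0x444) (nat_lit 12)
(Net.cons (nat_lit 0x2010) (nat_lit 6)
(Net.cons (nat_lit 0x4000) (nat_lit 3)
(Net.cons (nat_lit 0x248208) (nat_lit 1)
(Net.cons (nat_lit 0x41048) (nat_lit 2)
(Net.cons (nat_lit 0x471c0) (nat_lit 3)
(Net.cons (nat_lit 0x203c) (nat_lit 6)
(Net.cons (nat_lit 0x1d4) (nat_lit 12)
Net.nil))))))))

noncomputable def n5 : Net :=
(Net.cons (nat_lit 0xe58) (nat_lit 12)
(Net.cons (nat_lit 0x3803e) (nat_lit 6)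
(Net.cons (nat_lit 0x104004) (nat_lit 3)
(Net.cons (nat_lit 0x48208) (nat_lit 2)
(Net.cons (nat_lit 0x249208) (nat_lit 1)
(Net.cons (nat_lit 0x1008) (nat_lit 2)
(Net.cons (nat_lit 0x44046) (nat_lit 3)
(Net.cons (nat_lit 0x33036) (nat_lit 6)
(Net.cons (nat_lit 0xad8) (nat_lit 12)
Net.nil)))))))))

noncomputable def n6 : Net :=
(Net.cons (nat_lit 0x30) (nat_lit 12)
(Net.cons (nat_lit 0x2014) (nat_lit 6)
(Net.cons (nat_lit 0x180104) (nat_lit 3)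
(Net.cons (nat_lit 0x48) (nat_lit 2)
(Net.cons (nat_lit 0x49048) (nat_lit 1)
(Net.cons (nat_lit 0x200008) (nat_lit 2)
(Net.cons (nat_lit 0x184184) (nat_lit 3)
(Net.cons (nat_lit 0x18004) (nat_lit 6)
(Net.cons (nat_lit 0x540) (nat_lit 12)
Net.nil)))))))))

noncomputable def n7 : Net :=
(Net.cons (nat_lit 0xe00) (nat_lit 12)
(Net.cons (nat_lit 0x30010) (nat_lit 6)
(Net.cons (nat_lit 0x80100) (nat_lit 3)
(Net.cons (nat_lit 0x8200) (nat_lit 2)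
(Net.cons (nat_lit 0x49240) (nat_lit 1)
(Net.cons (nat_lit 0x200) (nat_lit 2)
(Net.cons (nat_lit 0x1c5140) (nat_lit 3)
(Net.cons (nat_lit 0xd010) (nat_lit 6)
(Net.cons (nat_lit 0xb30) (nat_lit 12)
Net.nil)))))))))

noncomputable def n8 : Net :=
(Net.cons (nat_lit 0x1a0) (nat_lit 12)
(Net.cons (nat_lit 0x6) (nat_lit 6)
(Net.cons (nat_lit 0x2084) (nat_lit 3)
(Net.cons (nat_lit 0x8) (nat_lit 2)
(Net.cons (nat_lit 0x208048) (nat_lit 1)
(Net.cons (nat_lit 0x40008) (nat_lit 2)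
(Net.cons (nat_lit 0x60c6) (nat_lit 3)
(Net.cons (nat_lit 0x13006) (nat_lit 6)
(Net.cons (nat_lit 0x780) (nat_lit 12)
Net.nil)))))))))

noncomputable def n9 : Net :=
(Net.cons (nat_lit 0x7f2) (nat_lit 12)
(Net.cons (nat_lit 0x3e000) (nat_lit 6)
(Net.cons (nat_lit 0x6100) (nat_lit 3)
(Net.cons (nat_lit 0x40) (nat_lit 2)
(Net.cons (nat_lit 0x1040) (nat_lit 1)
(Net.cons (nat_lit 0x8040) (nat_lit 2)
(Net.cons (nat_lit 0x144002) (nat_lit 3)
(Net.cons (nat_lit 0x3e010) (nat_lit 6)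
(Net.cons (nat_lit 0x592) (nat_lit 12)
Net.nil)))))))))

noncomputable def T : List Net := [n0, n1, n2, n3, n4, n5, n6, n7, n8, n9]

theorem ok : TOK 24 T := TOK_of_ok (by decide +kernel)

def E : List (List Nat × List Nat) :=
  [([0, 2], [0, 0, 1, 1]),
   ([1, 1, 1, 3], [0, 1, 0, 0, 0]),
   ([2, 2, 4], [3, 3, 2]),
   ([3, 2, 2, 5], [2, 2, 2, 2]),
   ([6], [4, 5]),
   ([5, 5, 7], [4, 4, 5, 5, 5]),
   ([4, 5, 5, 5, 4, 8], [5, 4, 5, 5, 5]),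
   ([7, 7, 9], [6, 8, 8, 6, 8])]

theorem eqs : ∀ e ∈ E, ev (sig T) e.1 = ev (sig T) e.2 :=
  eq_of_eqsP ok (by norm_num) (show eqsP (nat_lit 24) (nat_lit 5) (nat_lit 0) (nat_lit 5) T E = true by decide +kernel)

noncomputable def phi : ↥Cfsg.Spor.M22 →* Equiv.Perm ℕ := (encHom Golay.gE).comp (Cfsg.Spor.M22).subtype

theorem rep0 : ∃ s, Rep s 2 24 T phi :=
  rep_of_gen Golay.gE (w := 5) (by norm_num) Golay.gen_M22 ok rfl (by decide +kernel)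

noncomputable def s : ℕ → ↥Cfsg.Spor.M22 := rep0.choose

theorem rep : Rep s 2 24 T phi := rep0.choose_spec

theorem card : Finite ↥Cfsg.Spor.M22 ∧ Nat.card ↥Cfsg.Spor.M22 = 443520 := ⟨inferInstance, Golay.card_M22⟩

theorem inj : Function.Injective phi := encHom_sub_injective _ _

theorem allIn : AllIn phi.range T := allIn_of_rep rep eqs (L' := 10) rfl (by decide +kernel)

end Cfsg.Agent.Schur.M22
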