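import Cfsg.Agent.Schur.M22.Base

set_option autoImplicit false
set_option maxRecDepth 100000

namespace Cfsg.Agent.Schur.M22
open Cfsg.Agent.Comp Cfsg.Agent.Schur

namespace P2

noncomputable def x0 : Net :=
(Net.cons (nat_lit 0xff4) (nat_lit 12)
(Net.cons (nat_lit 0x10010) (nat_lit 6)
(Net.cons (nat_lit 0x186000) (nat_lit 3)
(Net.cons (nat_lit 0x201048) (nat_lit 1)
(Net.cons (nat_lit 0x48008) (nat_lit 2)
(Net.cons (nat_lit 0x83000) (nat_lit 3)
(Net.cons (nat_lit 0x10002) (nat_lit 6)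
(Net.cons (nat_lit 0xace) (nat_lit 12)
Net.nil))))))))

noncomputable def x1 : Net :=
(Net.cons (nat_lit 0x798) (nat_lit 12)
(Net.cons (nat_lit 0x2e000) (nat_lit 6)
(Net.cons (nat_lit 0x180) (nat_lit 3)
(Net.cons (nat_lit 0x40) (nat_lit 2)
(Net.cons (nat_lit 0x240040) (nat_lit 1)
(Net.cons (nat_lit 0x1000) (nat_lit 2)
(Net.cons (nat_lit 0x180182) (nat_lit 3)
(Net.cons (nat_lit 0x2e02e) (nat_lit 6)
(Net.cons (nat_lit 0x688) (nat_lit 12)
Net.nil)))))))))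

noncomputable def x2 : Net :=
(Net.cons (nat_lit 0x190) (nat_lit 12)
(Net.cons (nat_lit 0x200a) (nat_lit 6)
(Net.cons (nat_lit 0x2080) (nat_lit 3)
(Net.cons (nat_lit 0x209) (nat_lit 2)
(Net.cons (nat_lit 0x1249) (nat_lit 1)
(Net.cons (nat_lit 0x40049) (nat_lit 2)
(Net.cons (nat_lit 0x82140) (nat_lit 3)
(Net.cons (nat_lit 0x203a) (nat_lit 6)
(Net.cons (nat_lit 0x190) (nat_lit 12)
Net.nil)))))))))

noncomputable def x3 : Net :=
(Net.cons (nat_lit 0x540) (nat_lit 12)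
(Net.cons (nat_lit 0x28008) (nat_lit 6)
(Net.cons (nat_lit 0x4000) (nat_lit 3)
(Net.cons (nat_lit 0x248000) (nat_lit 2)
(Net.cons (nat_lit 0x86142) (nat_lit 3)
(Net.cons (nat_lit 0x28008) (nat_lit 6)
(Net.cons (nat_lit 0x552) (nat_lit 12)
Net.nil)))))))

noncomputable def x4 : Net :=
(Net.cons (nat_lit 0x9e0) (nat_lit 12)
(Net.cons (nat_lit 0x36018) (nat_lit 6)
(Net.cons (nat_lit 0x100000) (nat_lit 3)
(Net.cons (nat_lit 0x8000) (nat_lit 2)
(Net.cons (nat_lit 0x8240) (nat_lit 1)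
(Net.cons (nat_lit 0x49000) (nat_lit 2)
(Net.cons (nat_lit 0x1800c2) (nat_lit 3)
(Net.cons (nat_lit 0x3601c) (nat_lit 6)
(Net.cons (nat_lit 0x9e0) (nat_lit 12)
Net.nil)))))))))

noncomputable def x5 : Net :=
(Net.cons (nat_lit 0xd0) (nat_lit 12)
(Net.cons (nat_lit 0x1201a) (nat_lit 6)
(Net.cons (nat_lit 0x2000) (nat_lit 3)
(Net.cons (nat_lit 0x1240) (nat_lit 1)
(Net.cons (nat_lit 0x40000) (nat_lit 2)
(Net.cons (nat_lit 0x821c6) (nat_lit 3)
(Net.cons (nat_lit 0x1201a) (nat_lit 6)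
(Net.cons (nat_lit 0xd0) (nat_lit 12)
Net.nil))))))))

noncomputable def x6 : Net :=
(Net.cons (nat_lit 0x570) (nat_lit 12)
(Net.cons (nat_lit 0x1a) (nat_lit 6)
(Net.cons (nat_lit 0x4004) (nat_lit 3)
(Net.cons (nat_lit 0x8) (nat_lit 2)
(Net.cons (nat_lit 0x248) (nat_lit 1)
(Net.cons (nat_lit 0x41008) (nat_lit 2)
(Net.cons (nat_lit 0x4104) (nat_lit 3)
(Net.cons (nat_lit 0x1201a) (nat_lit 6)
(Net.cons (nat_lit 0x570) (nat_lit 12)
Net.nil)))))))))

noncomputable def x7 : Net :=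
(Net.cons (nat_lit 0x110) (nat_lit 12)
(Net.cons (nat_lit 0x403a) (nat_lit 6)
(Net.cons (nat_lit 0x84080) (nat_lit 3)
(Net.cons (nat_lit 0x8049) (nat_lit 2)
(Net.cons (nat_lit 0x209049) (nat_lit 1)
(Net.cons (nat_lit 0x41249) (nat_lit 2)
(Net.cons (nat_lit 0xc1042) (nat_lit 3)
(Net.cons (nat_lit 0x4008) (nat_lit 6)
(Net.cons (nat_lit 0x7c6) (nat_lit 12)
Net.nil)))))))))

noncomputable def x8 : Net :=
(Net.cons (nat_lit 0xa06) (nat_lit 12)
(Net.cons (nat_lit 0xa022) (nat_lit 6)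
(Net.cons (nat_lit 0x182082) (nat_lit 3)
(Net.cons (nat_lit 0x48208) (nat_lit 1)
(Net.cons (nat_lit 0x40040) (nat_lit 2)
(Net.cons (nat_lit 0x1c2142) (nat_lit 3)
(Net.cons (nat_lit 0x1702a) (nat_lit 6)
(Net.cons (nat_lit 0xcf8) (nat_lit 12)
Net.nil))))))))

noncomputable def R0 : List Net := [x0, x1, x2, x3, x4, x5, x6, x7, x8]

noncomputable def R : List Net := R0 ++ Cfsg.Agent.Schur.M22.T

theorem ok : TOK 24 R := tok_append (TOK_of_ok (by decide +kernel)) Cfsg.Agent.Schur.M22.ok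

def D : List (List Nat × List Nat) :=
  [([0], [16, 10, 12, 15, 13, 13, 16, 15]),
   ([1], [14, 10, 12, 14, 18, 13, 15, 17, 18]),
   ([2], [12, 12, 9, 16, 11, 14, 13, 18, 15, 18, 18]),
   ([7], [10, 10, 11, 11, 14, 14, 13, 15, 18, 18]),
   ([8], [16, 9, 10, 17, 13])]

theorem defs : ∀ e ∈ D, ev (sig R) e.1 = ev (sig R) e.2 :=
  eq_of_eqsP ok (by norm_num) (show eqsP (nat_lit 24) (nat_lit 5) (nat_lit 0) (nat_lit 5) R D = true by decide +kernel)

def T : List (List (List Nat)) :=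
  [[[6]],
   [[1, 3], [5, 6]],
   [[2, 4], [2, 6], []],
   [[3], [3, 6], [3, 5], []],
   [[4], [4, 5, 6], [4], [4, 6], []],
   [[5, 6], [5], [5], [5], [5], []],
   [[6], [6], [6], [6], [6], [6], []]]

def Y : List (Nat × List Nat × List Nat) :=
  [(7, [2], [2, 5, 6]),
   (7, [4], [5]),
   (8, [5], [1, 4]),
   (8, [6], [3, 6])]

theorem eqs : ∀ e ∈ (pcEqs 2 7 T ++ stEqs Y), ev (sig R) e.1 = ev (sig R) e.2 :=
  eq_of_eqsP ok (by norm_num) (show eqsP (nat_lit 24) (nat_lit 5) (nat_lit 0) (nat_lit 5) R (pcEqs 2 7 T ++ stEqs Y) = true by decide +kernel)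

def D2 : List (List Nat × List Nat) :=
  [([0, 1, 3], [1, 0]),
   ([0, 2, 4], [2, 0]),
   ([2, 3, 5], [3, 2]),
   ([0, 5, 6], [5, 0])]

theorem allIn : AllIn Cfsg.Agent.Schur.M22.phi.range R :=
  AllIn.ext Cfsg.Agent.Schur.M22.allIn (o := 9) rfl (eqs_append defs (eqs_swap (D := D2) eqs (by decide +kernel))) (by decide +kernel)

def lv : List (List (List Nat) × List Nat × Nat × Nat) :=
  [([[0]], [0], 7, 2),
   ([[1], [3, 5, 6]], [0, 1], 14, 4),
   ([[5, 6], [2, 6], [2], [4, 6]], [2, 0, 1, 3], 1, 16)]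

theorem low : 2 ^ 7 ≤ Nat.card (gen (sig R) 7) :=
  low_gen (l := 5) (lv := lv) ok (by norm_num) (by decide +kernel) (by decide +kernel)

def I0 : List Ins :=
  [Ins.cons (nat_lit 0x6) (nat_lit 1) (nat_lit 0xc3) (nat_lit 0x1206),
   Ins.cons (nat_lit 0x7) (nat_lit 1) (nat_lit 0xc3) (nat_lit 0x1806),
   Ins.cons (nat_lit 0x7) (nat_lit 1) (nat_lit 0x104) (nat_lit 0x1906),
   Ins.cons (nat_lit 0x7) (nat_lit 1) (nat_lit 0x145) (nat_lit 0x1a06),
   Ins.cons (nat_lit 0x1) (nat_lit 1) (nat_lit 0x41) (nat_lit 0x1607),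
   Ins.cons (nat_lit 0x4) (nat_lit 1) (nat_lit 0x44) (nat_lit 0x702),
   Ins.cons (nat_lit 0x6) (nat_lit 1) (nat_lit 0x86) (nat_lit 0x1102),
   Ins.cons (nat_lit 0x7) (nat_lit 1) (nat_lit 0x87) (nat_lit 0x1702),
   Ins.cons (nat_lit 0x4) (nat_lit 1) (nat_lit 0xc3) (nat_lit 0x15070120700906),
   Ins.cons (nat_lit 0x5) (nat_lit 1) (nat_lit 0x104) (nat_lit 0x1c070190700e06),
   Ins.cons (nat_lit 0x4) (nat_lit 1) (nat_lit 0x41) (nat_lit 0x190700706),
   Ins.cons (nat_lit 0x5) (nat_lit 1) (nat_lit 0x41) (nat_lit 0x1a0700b06),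
   Ins.cons (nat_lit 0x2) (nat_lit 1) (nat_lit 0x82) (nat_lit 0x170701107),
   Ins.cons (nat_lit 0x3) (nat_lit 1) (nat_lit 0x43) (nat_lit 0xf0100d0100402),
   Ins.cons (nat_lit 0x6) (nat_lit 1) (nat_lit 0x46) (nat_lit 0x1c0101b0101002),
   Ins.cons (nat_lit 0x3) (nat_lit 1) (nat_lit 0x83) (nat_lit 0x1c010180100502),
   Ins.cons (nat_lit 0x4) (nat_lit 1) (nat_lit 0x84) (nat_lit 0x1c010190100802),
   Ins.cons (nat_lit 0x4) (nat_lit 1) (nat_lit 0xc4) (nat_lit 0x15010130100902),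
   Ins.cons (nat_lit 0x6) (nat_lit 1) (nat_lit 0x82) (nat_lit 0x1b0701106),
   Ins.cons (nat_lit 0x2) (nat_lit 1) (nat_lit 0x41) (nat_lit 0x19060170700a070070700206),
   Ins.cons (nat_lit 0x3) (nat_lit 1) (nat_lit 0x41) (nat_lit 0x1a060180700f0700b0700406),
   Ins.cons (nat_lit 0x3) (nat_lit 1) (nat_lit 0x82) (nat_lit 0x1c0701807017070120700506),
   Ins.cons (nat_lit 0x5) (nat_lit 1) (nat_lit 0x85) (nat_lit 0x1c0101b0101a01015010140100c02),
   Ins.cons (nat_lit 0x2) (nat_lit 1) (nat_lit 0x42) (nat_lit 0x190101607013020100700a010080100202),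
   Ins.cons (nat_lit 0x4) (nat_lit 1) (nat_lit 0x83) (nat_lit 0x19070180101107),
   Ins.cons (nat_lit 0x4) (nat_lit 1) (nat_lit 0x43) (nat_lit 0x1c0701b07014010100700e07),
   Ins.cons (nat_lit 0x3) (nat_lit 1) (nat_lit 0x42) (nat_lit 0x1c0101b0201a0101607014070130100e0100c0100907),
   Ins.stab 7 [1, 0] [0, 1] (nat_lit 0x1b010120700d01),
   Ins.stab 8 [3, 2] [2, 3] (nat_lit 0x1b010170700e0100807)]

theorem ins0 : InsOK 7 0 32 T Y 7 I0 :=
  InsOK.of 11 (show lall (insOK (nat_lit 7) (nat_lit 0) (nat_lit 11) (nat_lit 32) T Y (nat_lit 7)) I0 = true by decide +kernel)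

def I : List Ins := I0

def K : List Nat :=
  [nat_lit 0x80100507]

def O : List Nat :=
  [nat_lit 0x1d0601c0401b0401a02019060180601702016060150401406013060110200f0400e0400d0200c0200b0600a04009020080200702006050050600406003020020200102]

def U : List Nat :=
  [nat_lit 0x50300101,
   nat_lit 0x9030050300301,
   nat_lit 0x601,
   nat_lit 0x202,
   nat_lit 0x402,
   nat_lit 0x902,
   nat_lit 0x502]

def C : List (List Nat) :=
  [[nat_lit 0x0],
  [nat_lit 0x0,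
   nat_lit 0x0],
  [nat_lit 0x0,
   nat_lit 0x0,
   nat_lit 0x0],
  [nat_lit 0x1e0101b0101a01019010180101701015010100100e0100d0100a0100601,
   nat_lit 0x101,
   nat_lit 0x0,
   nat_lit 0x1e0101b01019010180101701011010100100d0100b0100a0100601],
  [nat_lit 0x1d0101a010170101601011010100100f0100e0100b01,
   nat_lit 0x1e0101c0101a0101801013010110100e0100b010060100101,
   nat_lit 0x1d0101a01017010100100e0100c01,
   nat_lit 0x1e0101a01011010100100e0100c0100101,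
   nat_lit 0x1d0101a01017010100100f0100e0100c01],
  [nat_lit 0x1e0101b010180101701011010100100d0100c0100b0100a0100101,
   nat_lit 0x1a010110100b01,
   nat_lit 0x1a010170100e0100b01,
   nat_lit 0x1a01017010130100e0100b0100a01,
   nat_lit 0x1a0101801017010100100e0100d0100b0100a01,
   nat_lit 0x1a010170100e0100b0100a01],
  [nat_lit 0x601,
   nat_lit 0x1a010110100e0100b01,
   nat_lit 0x110100c0100b01,
   nat_lit 0xc01,
   nat_lit 0xd01,
   nat_lit 0x100100c0100b01,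
   nat_lit 0xc0100b01]]

theorem ord : ordsOK 2 (Nat.succ 7) 12 32 (insL I) K [2] O = true :=
  show ordsOK (nat_lit 2) (Nat.succ (nat_lit 7)) (nat_lit 12) (nat_lit 32) (insL I) K [2] O = true by decide +kernel

theorem tgt0 : TgtOK 2 32 T 2 3 (K ++ insL I) U C 0 7 :=
  TgtOK.of 10 7 rfl (show tgtRows (nat_lit 2) (nat_lit 10) (nat_lit 32) T (nat_lit 2) (nat_lit 3) (K ++ insL I) U C (nat_lit 0) (nat_lit 7) = true by decide +kernel)

theorem gen : PGen ↥Cfsg.Spor.M22 2 [2] :=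
  haveI := Cfsg.Agent.Schur.M22.card.1
  pgen_net Cfsg.Agent.Schur.M22.inj allIn Cfsg.Agent.Schur.M22.card.2 (by norm_num) rfl eqs low (by norm_num) (by decide +kernel) (E := 2) (I := I)
    (ins0) ord (a := 1) tgt0 (by decide +kernel)

end P2

end Cfsg.Agent.Schur.M22
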