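import Cfsg.Agent.Schur.M22.Base

set_option autoImplicit false
set_option maxRecDepth 100000

namespace Cfsg.Agent.Schur.M22
open Cfsg.Agent.Comp Cfsg.Agent.Schur

namespace P3

noncomputable def x0 : Net :=
(Net.cons (nat_lit 0xc0) (nat_lit 12)
(Net.cons (nat_lit 0x24002) (nat_lit 6)
(Net.cons (nat_lit 0x84100) (nat_lit 3)
(Net.cons (nat_lit 0x240200) (nat_lit 2)
(Net.cons (nat_lit 0x248200) (nat_lit 1)
(Net.cons (nat_lit 0x208040) (nat_lit 2)
(Net.cons (nat_lit 0x5042) (nat_lit 3)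
(Net.cons (nat_lit 0x31026) (nat_lit 6)
(Net.cons (nat_lit 0x110) (nat_lit 12)
Net.nil)))))))))

noncomputable def x1 : Net :=
(Net.cons (nat_lit 0x960) (nat_lit 12)
(Net.cons (nat_lit 0x2038) (nat_lit 6)
(Net.cons (nat_lit 0x104000) (nat_lit 3)
(Net.cons (nat_lit 0x8200) (nat_lit 2)
(Net.cons (nat_lit 0x248208) (nat_lit 1)
(Net.cons (nat_lit 0x209200) (nat_lit 2)
(Net.cons (nat_lit 0xc6080) (nat_lit 3)
(Net.cons (nat_lit 0x2b030) (nat_lit 6)
(Net.cons (nat_lit 0xb68) (nat_lit 12)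
Net.nil)))))))))

noncomputable def R0 : List Net := [x0, x1]

noncomputable def R : List Net := R0 ++ Cfsg.Agent.Schur.M22.T

theorem ok : TOK 24 R := tok_append (TOK_of_ok (by decide +kernel)) Cfsg.Agent.Schur.M22.ok

def D : List (List Nat × List Nat) :=
  [([0], [8, 4, 7, 6, 6, 9, 8]),
   ([1], [6, 6, 10, 10, 8, 11, 11])]

theorem defs : ∀ e ∈ D, ev (sig R) e.1 = ev (sig R) e.2 :=
  eq_of_eqsP ok (by norm_num) (show eqsP (nat_lit 24) (nat_lit 5) (nat_lit 0) (nat_lit 5) R D = true by decide +kernel)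

def T : List (List (List Nat)) :=
  [[[]],
   [[1], []]]

def Y : List (Nat × List Nat × List Nat) :=
  []

theorem eqs : ∀ e ∈ (pcEqs 3 2 T ++ stEqs Y), ev (sig R) e.1 = ev (sig R) e.2 :=
  eq_of_eqsP ok (by norm_num) (show eqsP (nat_lit 24) (nat_lit 5) (nat_lit 0) (nat_lit 5) R (pcEqs 3 2 T ++ stEqs Y) = true by decide +kernel)

def D2 : List (List Nat × List Nat) :=
  []

theorem allIn : AllIn Cfsg.Agent.Schur.M22.phi.range R :=
  AllIn.ext Cfsg.Agent.Schur.M22.allIn (o := 2) rfl (eqs_append defs (eqs_swap (D := D2) eqs (by decide +kernel))) (by decide +kernel)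

def lv : List (List (List Nat) × List Nat × Nat × Nat) :=
  [([[0]], [0, 0], 2, 3),
   ([[1]], [0, 0], 3, 3)]

theorem low : 3 ^ 2 ≤ Nat.card (gen (sig R) 2) :=
  low_gen (l := 5) (lv := lv) ok (by norm_num) (by decide +kernel) (by decide +kernel)

def I0 : List Ins :=
  [Ins.cons (nat_lit 0x2) (nat_lit 1) (nat_lit 0x1041) (nat_lit 0x206)]

theorem ins0 : InsOK 2 1 3 T Y 8 I0 :=
  InsOK.of 9 (show lall (insOK (nat_lit 2) (nat_lit 1) (nat_lit 9) (nat_lit 3) T Y (nat_lit 8)) I0 = true by decide +kernel)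

def I : List Ins := I0

def K : List Nat :=
  [nat_lit 0x201]

def O : List Nat :=
  [nat_lit 0x104]

def U : List Nat :=
  [nat_lit 0x101,
   nat_lit 0x301]

def C : List (List Nat) :=
  [[nat_lit 0x0],
  [nat_lit 0x102,
   nat_lit 0x0]]

theorem ord : ordsOK 3 (Nat.succ 8) 7 3 (insL I) K [1] O = true :=
  show ordsOK (nat_lit 3) (Nat.succ (nat_lit 8)) (nat_lit 7) (nat_lit 3) (insL I) K [1] O = true by decide +kernel

theorem tgt0 : TgtOK 3 3 T 3 8 (K ++ insL I) U C 0 2 :=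
  TgtOK.of 6 2 rfl (show tgtRows (nat_lit 3) (nat_lit 6) (nat_lit 3) T (nat_lit 3) (nat_lit 8) (K ++ insL I) U C (nat_lit 0) (nat_lit 2) = true by decide +kernel)

theorem gen : PGen ↥Cfsg.Spor.M22 3 [1] :=
  haveI := Cfsg.Agent.Schur.M22.card.1
  pgen_net Cfsg.Agent.Schur.M22.inj allIn Cfsg.Agent.Schur.M22.card.2 (by norm_num) rfl eqs low (by norm_num) (by decide +kernel) (E := 1) (I := I)
    (ins0) ord (a := 1) tgt0 (by decide +kernel)

end P3

end Cfsg.Agent.Schur.M22
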